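import Mathlib

/-!
Left inverses of maps into projective modules, modulo an ideal (EGA 0_IV 19.1.x).
-/

universe u

namespace Groth.Agent.LeftInvLib

theorem bijective_of_sub_mem {A : Type u} [CommRing A] {M : Type u} [AddCommGroup M] [Module A M] (J : Ideal A)
    (hJ : IsNilpotent J ∨ (J ≤ (⊥ : Ideal A).jacobson ∧ Module.Finite A M)) (e : M →ₗ[A] M)
    (he : ∀ x, e x - x ∈ (J • ⊤ : Submodule A M)) : Function.Bijective e := by
  rcases hJ with ⟨n, hn⟩ | ⟨hJ, hfin⟩
  · have hkey : ∀ (k : ℕ) (x : M), ((LinearMap.id - e) ^ k : Module.End A M) x ∈ (J ^ k • ⊤ : Submodule A M) := by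
      intro k
      induction k with
      | zero => intro x; simp
      | succ k ih =>
        intro x
        rw [show ((LinearMap.id - e) ^ (k + 1) : Module.End A M) = (LinearMap.id - e) * (LinearMap.id - e) ^ k from pow_succ' _ _, Module.End.mul_apply]
        have hstep : ∀ y ∈ (J ^ k • ⊤ : Submodule A M), (LinearMap.id - e : M →ₗ[A] M) y ∈ (J ^ (k + 1) • ⊤ : Submodule A M) := by
          intro y hy
          have := Submodule.mem_map_of_mem (f := (LinearMap.id - e : M →ₗ[A] M)) hy
          rw [Submodule.map_smul''] at this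
          rw [pow_succ, Submodule.mul_smul]
          refine Submodule.smul_mono le_rfl ?_ this
          rintro _ ⟨z, -, rfl⟩
          rw [LinearMap.sub_apply, LinearMap.id_apply, ← neg_sub]
          exact neg_mem (he z)
        exact hstep _ (ih x)
    have hnil : IsNilpotent (LinearMap.id - e : Module.End A M) := ⟨n, LinearMap.ext fun x => by
      have := hkey n x
      rwa [hn, Submodule.zero_eq_bot, Submodule.bot_smul, Submodule.mem_bot] at this⟩
    have hu : IsUnit (e : Module.End A M) := by
      have := hnil.isUnit_one_sub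
      rwa [← Module.End.one_eq_id, sub_sub_cancel] at this
    exact (Module.End.isUnit_iff e).1 hu
  · haveI := hfin
    refine OrzechProperty.bijective_of_surjective_endomorphism e ?_
    rw [← LinearMap.range_eq_top, eq_top_iff]
    refine Submodule.le_of_le_smul_of_le_jacobson_bot Module.Finite.fg_top hJ fun x _ => ?_
    rw [show x = e x - (e x - x) by abel]
    exact sub_mem (Submodule.mem_sup_left ⟨x, rfl⟩) (Submodule.mem_sup_right (he x))

theorem exists_leftInverse {A : Type u} [CommRing A] {M N : Type u} [AddCommGroup M] [Module A M]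
    [AddCommGroup N] [Module A N] (J : Ideal A)
    (hJ : IsNilpotent J ∨ (J ≤ (⊥ : Ideal A).jacobson ∧ Module.Finite A M)) (u : M →ₗ[A] N) (w₀ : N →ₗ[A] M)
    (h : ∀ x, w₀ (u x) - x ∈ (J • ⊤ : Submodule A M)) : ∃ w : N →ₗ[A] M, w ∘ₗ u = LinearMap.id := by
  let e := LinearEquiv.ofBijective (w₀ ∘ₗ u) (bijective_of_sub_mem J hJ (w₀ ∘ₗ u) h)
  refine ⟨e.symm.toLinearMap ∘ₗ w₀, LinearMap.ext fun x => ?_⟩
  exact e.symm_apply_apply x

end Groth.Agent.LeftInvLib
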